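import Mathlib
import Cfsg.Agent.Lib.Helper4.TIQ.Defs

/-!
# Project TIQ (S4151), package [AB]

Coprime action with `[K, A] = K`: the fixed points of `A` in `K` lie in the derived group of `K`
(norm map into the abelianization of `K`).
-/

set_option autoImplicit false

namespace Cfsg.Agent.Lib.Helper25.TIQ

open Cfsg.Agent.Lib.Helper4.TIQ

universe u

/-- conjugation by an element of `A ≤ N_G(K)`, restricted to `K`. -/
def conjHom {G : Type u} [Group G] (K A : Subgroup G)
    (hA : A ≤ Subgroup.normalizer (K : Set G)) (a : A) : K →* K where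
  toFun x := ⟨(a : G) * x * (a : G)⁻¹, (Subgroup.mem_normalizer_iff.mp (hA a.2) x).mp x.2⟩
  map_one' := by ext; simp
  map_mul' x y := by ext; simp [mul_assoc]

theorem conjHom_val {G : Type u} [Group G] (K A : Subgroup G)
    (hA : A ≤ Subgroup.normalizer (K : Set G)) (a : A) (x : K) :
    (conjHom K A hA a x : G) = (a : G) * x * (a : G)⁻¹ := rfl

open Classical in
/-- the norm map `K → K / K'`. -/
noncomputable def normHom {G : Type u} [Group G] [Finite G] (K A : Subgroup G)
    (hA : A ≤ Subgroup.normalizer (K : Set G)) : K →* Abelianization K :=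
  letI : Fintype A := Fintype.ofFinite A
  ∏ a : A, (Abelianization.of.comp (conjHom K A hA a))

open Classical in
theorem normHom_apply {G : Type u} [Group G] [Finite G] (K A : Subgroup G)
    (hA : A ≤ Subgroup.normalizer (K : Set G)) (k : K) :
    letI : Fintype A := Fintype.ofFinite A
    normHom K A hA k = ∏ a : A, Abelianization.of (conjHom K A hA a k) := by
  unfold normHom
  rw [MonoidHom.finsetProd_apply]
  rfl

open Classical in
theorem normHom_conj {G : Type u} [Group G] [Finite G] (K A : Subgroup G)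
    (hA : A ≤ Subgroup.normalizer (K : Set G)) (a0 : A) (k : K) :
    normHom K A hA (conjHom K A hA a0 k) = normHom K A hA k := by
  letI : Fintype A := Fintype.ofFinite A
  rw [normHom_apply, normHom_apply]
  refine Fintype.prod_equiv (Equiv.mulRight a0) _ _ ?_
  intro a
  congr 1
  ext
  simp [conjHom_val, mul_assoc]

theorem pkgAb : PkgAb.{u} := by
  intro G _ _ K A hA hcop hKA
  classical
  letI : Fintype A := Fintype.ofFinite A
  -- the norm map kills `[K, A] = K`
  have hker : K ≤ (normHom K A hA).ker.map K.subtype := by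
    have h1 : ⁅K, A⁆ ≤ (normHom K A hA).ker.map K.subtype := by
      rw [Subgroup.commutator_le]
      intro k hk a ha
      have hk' : (a : G) * k⁻¹ * (a : G)⁻¹ ∈ K :=
        (Subgroup.mem_normalizer_iff.mp (hA ha) k⁻¹).mp (K.inv_mem hk)
      refine ⟨⟨k, hk⟩ * conjHom K A hA ⟨a, ha⟩ ⟨k, hk⟩⁻¹, ?_, ?_⟩
      · rw [SetLike.mem_coe, MonoidHom.mem_ker, map_mul, normHom_conj, ← map_mul, mul_inv_cancel,
          map_one]
      · simp [conjHom_val, commutatorElement_def, mul_assoc]
    rwa [hKA] at h1
  have hall : ∀ k : K, normHom K A hA k = 1 := by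
    intro k
    obtain ⟨y, hy, hyk⟩ := hker k.2
    have : y = k := Subtype.ext hyk
    rw [← this]
    exact hy
  rintro c ⟨hcK, hcA⟩
  have hcA' : ∀ a : A, conjHom K A hA a ⟨c, hcK⟩ = ⟨c, hcK⟩ := by
    intro a
    ext
    rw [conjHom_val]
    have := (Subgroup.mem_centralizer_iff.mp hcA) a a.2
    simp only
    rw [this, mul_inv_cancel_right]
  have h1 : (Abelianization.of (⟨c, hcK⟩ : K)) ^ Nat.card A = 1 := by
    have h2 := hall ⟨c, hcK⟩
    rw [normHom_apply] at h2
    simp only [hcA'] at h2
    rw [Finset.prod_const, Finset.card_univ, ← Nat.card_eq_fintype_card] at h2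
    exact h2
  have h2 : (Abelianization.of (⟨c, hcK⟩ : K)) ^ Nat.card K = 1 := by
    rw [← map_pow, pow_card_eq_one', map_one]
  have h3 : Abelianization.of (⟨c, hcK⟩ : K) = 1 := by
    have := pow_gcd_eq_one.mpr ⟨h1, h2⟩
    rwa [hcop, pow_one] at this
  have h4 : (⟨c, hcK⟩ : K) ∈ commutator K := by
    rw [← Abelianization.ker_of]
    exact h3
  rw [← Subgroup.map_subtype_commutator]
  exact ⟨⟨c, hcK⟩, h4, rfl⟩

end Cfsg.Agent.Lib.Helper25.TIQ
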