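import Mathlib
import Cfsg.Agent.Lib.Helper4.TIQ.Defs

/-!
# Project TIQ (S4151), package [ZSYL]

In a Z-group the Sylow `p`-subgroups for `p ∣ |K'|` are normal and lie in `K'`.
-/

set_option autoImplicit false

namespace Cfsg.Agent.Lib.Helper25.TIQ

open Cfsg.Agent.Lib.Helper4.TIQ

universe u

theorem pkgZSyl : PkgZSyl.{u} := by
  intro K _ _ _ p _ P hp
  have hpr : p.Prime := Fact.out
  have hidx : ¬ p ∣ (commutator K).index := by
    rcases Sylow.not_dvd_card_commutator_or_not_dvd_index_commutator P with h | h
    · exact absurd hp h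
    · exact h
  -- every element of `P` lies in the commutator subgroup
  have hPle : (P : Subgroup K) ≤ commutator K := by
    intro x hx
    obtain ⟨k, hk⟩ := (IsPGroup.iff_orderOf.mp P.isPGroup') ⟨x, hx⟩
    have hk' : orderOf x = p ^ k := by
      rw [← hk]
      exact (Subgroup.orderOf_mk x hx).symm
    have h1 : orderOf (QuotientGroup.mk' (commutator K) x) ∣ p ^ k := by
      rw [← hk']
      exact orderOf_map_dvd _ x
    have h2 : orderOf (QuotientGroup.mk' (commutator K) x) ∣ (commutator K).index := by
      rw [Subgroup.index_eq_card]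
      exact orderOf_dvd_natCard _
    have hcop : (p ^ k).Coprime (commutator K).index :=
      Nat.Coprime.pow_left k ((Nat.Prime.coprime_iff_not_dvd hpr).mpr hidx)
    have h3 : orderOf (QuotientGroup.mk' (commutator K) x) = 1 :=
      Nat.eq_one_of_dvd_coprimes hcop h1 h2
    have h4 : QuotientGroup.mk' (commutator K) x = 1 := orderOf_eq_one_iff.mp h3
    exact (QuotientGroup.eq_one_iff x).mp h4
  refine ⟨hPle, ?_⟩
  -- normality: the Sylow subgroup of the cyclic group `K'` is characteristic
  haveI : IsCyclic (commutator K) := IsZGroup.isCyclic_commutator K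
  let Q : Sylow p (commutator K) := P.subtype hPle
  have hcomm : ∀ a b : commutator K, a * b = b * a := fun a b =>
    (IsCyclic.commGroup (α := commutator K)).mul_comm a b
  haveI hQn : (Q : Subgroup (commutator K)).Normal := by
    refine ⟨fun n hn g => ?_⟩
    have : g * n * g⁻¹ = n := by rw [hcomm g n, mul_inv_cancel_right]
    rw [this]
    exact hn
  haveI hQc : (Q : Subgroup (commutator K)).Characteristic := Sylow.characteristic_of_normal Q hQn
  have hmap : ((Q : Subgroup (commutator K)).map (commutator K).subtype) = (P : Subgroup K) := by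
    rw [Sylow.coe_subtype]
    exact Subgroup.map_subgroupOf_eq_of_le hPle
  rw [← hmap]
  exact ConjAct.normal_of_characteristic_of_normal

end Cfsg.Agent.Lib.Helper25.TIQ
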